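import Cfsg.Agent.A12Type.Sp.Ctrl
import Cfsg.Agent.Invol.ZStar
import Cfsg.Agent.Invol.SEPairs
import Cfsg.Agent.Invol.StronglyEmbedded
import Cfsg.Agent.Classical.SympGroup
import Cfsg.Prelude.Def_Classical

/-!
The symplectic pattern gives `PSp(6,2)`: the embedded symplectic group contains the centralizers of
all its involutions, so it would be strongly embedded if it were proper.
-/

set_option autoImplicit false
set_option maxRecDepth 100000

namespace Cfsg.Agent.A12Type.Sp

open Subgroup Sp6Local Cfsg.Agent.Compute Cfsg.Agent.StemCert Cfsg.Agent.SympMult.SpSix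

theorem ew_comm {a b : List ℕ} (h : sameW (a ++ b) (b ++ a) = true) : Commute (ew a) (ew b) := by
  show ew a * ew b = ew b * ew a
  rw [← ew_append, ← ew_append, sameW_spec h]

theorem sameW_of_commute {a b : List ℕ} (ha : okW a = true) (hb : okW b = true)
    (h : Commute (ew a) (ew b)) : sameW (a ++ b) (b ++ a) = true := by
  have ok : ∀ {x y : List ℕ}, okW x = true → okW y = true → okW (x ++ y) = true := fun hx hy =>
    allB_intro fun v hv => by
      rcases List.mem_append.1 hv with hv | hv
      exacts [allB_spec hx v hv, allB_spec hy v hv]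
  simp only [sameW, Bool.and_eq_true, Nat.beq_eq]
  exact ⟨⟨ok ha hb, ok hb ha⟩, wkey_eq_of_ew (ok ha hb) (ok hb ha) (by rw [ew_append, ew_append]; exact h)⟩

theorem okW_append {x y : List ℕ} (hx : okW x = true) (hy : okW y = true) : okW (x ++ y) = true :=
  allB_intro fun v hv => by
    rcases List.mem_append.1 hv with hv | hv
    exacts [allB_spec hx v hv, allB_spec hy v hv]

namespace Emb

variable {G : Type*} [Group G] [Finite G] {B : Setup G} (E : Emb B) (h : B.PatS)
include h

/-- A transvection isolated in the centralizer of an involution keeps that centralizer inside. -/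
theorem good_of_iso {W : List ℕ} {s : ℕ} (hs : s < 64) (hs0 : s ≠ 0) (hW : okW W = true)
    (hW2 : orderOf (ew W) = 2) (hcomm : sameW ([s] ++ W) (W ++ [s]) = true) (hiso : isoB W s = true) :
    E.Good (ew W) := by
  classical
  intro g hg
  set Y : Subgroup G := centralizer ({E.φ (ew W)} : Set G)
  have hws : Commute (tv s) (ew W) := by rw [← ew_single s]; exact ew_comm hcomm
  have hs2 := (tv_data hs hs0).1
  have hgood : E.Good (tv s) := E.good_tv h hs hs0
  set w : Y := ⟨E.φ (tv s), mem_centralizer_singleton_iff.2 (hws.map E.φ).eq⟩ with hw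
  have hw2 : orderOf w = 2 := by rw [← Subgroup.orderOf_coe, hw, E.orderOf_φ, hs2]
  have hz : Cfsg.IsIsolatedInvolution w := by
    refine ⟨hw2, fun y hy => Subtype.ext ?_⟩
    have hyc : Commute (y : G) (E.φ (ew W)) := mem_centralizer_singleton_iff.1 y.2
    have hcw : Commute (E.φ (tv s)) ((y : G) * E.φ (tv s) * (y : G)⁻¹) := congrArg Subtype.val hy.eq
    obtain ⟨A, hA⟩ := hgood _ hcw.symm
    have hA2 : orderOf A = 2 := by rw [← E.orderOf_φ, hA, Invol.orderOf_conj, E.orderOf_φ, hs2]
    obtain ⟨v, hv, hv0, rfl⟩ := exists_tv ((isConj_tv_one hs hs0).trans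
      (E.control h hs2 hA2 (isConj_iff.2 ⟨(y : G), hA.symm⟩)))
    have c1 : Commute (ew [v]) (ew W) := by
      rw [ew_single]
      refine Commute.of_map E.inj ?_
      rw [hA, ← (mul_inv_eq_iff_eq_mul.2 hyc.eq : (y : G) * E.φ (ew W) * (y : G)⁻¹ = E.φ (ew W))]
      exact Setup.commute_conj.2 (hws.map E.φ)
    have c2 : Commute (ew [v]) (ew [s]) := by
      rw [ew_single, ew_single]
      refine Commute.of_map E.inj ?_
      rw [hA]
      exact hcw.symm
    have hconj : IsConj (ew (W ++ [s])) (ew (W ++ [v])) := by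
      have e : (y : G) * E.φ (ew (W ++ [s])) * (y : G)⁻¹ = E.φ (ew (W ++ [v])) := by
        rw [ew_append, ew_append, ew_single, ew_single, map_mul, map_mul, ← conj_mul, hA,
          mul_inv_eq_iff_eq_mul.2 hyc.eq]
      by_cases h1 : ew (W ++ [s]) = 1
      · rw [h1, map_one, mul_one, mul_inv_cancel] at e
        rw [h1, show ew (W ++ [v]) = 1 from E.inj (e.symm.trans (map_one E.φ).symm)]
      have h2 : orderOf (ew (W ++ [s])) = 2 := Invol.orderOf_eq_two_iff.2 ⟨h1, by
        rw [ew_append, ew_single, hws.mul_mul_mul_comm, (Invol.orderOf_eq_two_iff.1 hW2).2, tv_mul_self,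
          one_mul]⟩
      exact E.control h h2 (by rw [← E.orderOf_φ, ← e, Invol.orderOf_conj, E.orderOf_φ, h2])
        (isConj_iff.2 ⟨_, e⟩)
    have hinv := inv_eq_of_isConj (okW_append hW (okW_single hs)) (okW_append hW (okW_single hv)) hconj
    have ht := allBelow_eq_true.1 hiso v hv
    simp only [Bool.or_eq_true, Bool.not_eq_true', Nat.beq_eq] at ht
    show (y : G) * E.φ (tv s) * (y : G)⁻¹ = E.φ (tv s)
    rw [← hA]
    rcases ht with (((h' | h') | h') | h') | h'
    · exact absurd h' hv0
    · rw [h']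
    · rw [sameW_of_commute (okW_single hv) hW c1] at h'; exact Bool.noConfusion h'
    · rw [show ([v, s] : List ℕ) = [v] ++ [s] from rfl, show ([s, v] : List ℕ) = [s] ++ [v] from rfl,
        sameW_of_commute (okW_single hv) (okW_single hs) c2] at h'
      exact Bool.noConfusion h'
    · rw [← hinv, Nat.beq_refl] at h'; exact Bool.noConfusion h'
  set g' : Y := ⟨g, mem_centralizer_singleton_iff.2 hg.eq⟩
  have hcore : E.φ (tv s) * g * (E.φ (tv s))⁻¹ * g⁻¹ ∈ E.φ.range :=
    E.core_le h hW2 ⟨_, Invol.zstar hz g', rfl⟩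
  have hsq : E.φ (tv s) * E.φ (tv s) = 1 := by rw [← map_mul, tv_mul_self, map_one]
  obtain ⟨A, hA⟩ := mul_mem (show E.φ (tv s) ∈ E.φ.range from ⟨_, rfl⟩) hcore
  refine E.mem_of_conj h hgood hs2 (A' := A) ?_
  rw [hA, inv_eq_of_mul_eq_one_right hsq]
  simp only [← mul_assoc, hsq, one_mul]

/-- The centralizers of the third class are inside. -/
theorem good_line : E.Good (ew (repW 2)) := by
  classical
  intro g hg
  obtain ⟨hr, hW, hne⟩ : (orderOf (ew (repW 2)) = 2) ∧ okW (repW 2) = true ∧ inv (repW 1) ≠ inv (repW 2) :=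
    ⟨rep_order (Or.inr (Or.inl rfl)), by decide +kernel, by decide +kernel⟩
  obtain ⟨⟨v0, hv0⟩, hv00, hvc, hvn⟩ := witness_table
  simp only at hv00 hvc hvn
  have hl := line_table'
  simp only [Bool.and_eq_true] at hl
  obtain ⟨⟨t1, t2⟩, t3⟩ := hl
  set x := E.φ (ew (repW 2)) with hx
  set w := E.φ (tv 6) with hw
  set c' := g * E.φ (tv v0) * g⁻¹ with hc'
  have h6 := (tv_data (v := 6) (by norm_num) (by norm_num)).1
  have hv2 := (tv_data hv0 hv00).1
  have hwx : Commute w x := by rw [hw, ← ew_single]; exact (ew_comm t3).map E.φ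
  have hvx : Commute (E.φ (tv v0)) x := by rw [← ew_single]; exact (ew_comm hvc).map E.φ
  have hgx : g * x * g⁻¹ = x := mul_inv_eq_iff_eq_mul.2 hg.eq
  have hcx : Commute c' x := by rw [hc', ← hgx]; exact Setup.commute_conj.2 hvx
  have hgood6 := E.good_tv h (v := 6) (by norm_num) (by norm_num)
  have hgoodv := E.good_tv h hv0 hv00
  suffices hin : c' ∈ E.φ.range by
    obtain ⟨A, hA⟩ := hin
    exact E.mem_of_conj h hgoodv hv2 (hA.symm.trans rfl)
  have hww : w * w = 1 := by rw [hw, ← map_mul, tv_mul_self, map_one]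
  have hcc : c' * c' = 1 := by rw [hc', conj_mul, ← map_mul, tv_mul_self, map_one, mul_one, mul_inv_cancel]
  set p := w * c' with hp
  have hpx : Commute p x := hwx.mul_left hcx
  -- the classes are different in the centralizer
  have notconj : ∀ y : G, Commute y x → y * w * y⁻¹ ≠ c' := by
    intro y hy e
    set z := g⁻¹ * y
    have ez : z * E.φ (tv 6) * z⁻¹ = E.φ (tv v0) := by
      rw [show z * E.φ (tv 6) * z⁻¹ = g⁻¹ * (y * w * y⁻¹) * g by rw [hw]; simp only [z]; group, e, hc']; group
    have zx : z * x * z⁻¹ = x := mul_inv_eq_iff_eq_mul.2 (hg.inv_left.mul_left hy).eq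
    have e2 : z * E.φ (ew (repW 2 ++ [6])) * z⁻¹ = E.φ (ew (repW 2 ++ [v0])) := by
      rw [ew_append, ew_append, ew_single, ew_single, map_mul, map_mul, ← conj_mul, ← hx, zx, ez]
    have o6 : orderOf (ew (repW 2 ++ [6])) = 2 := by
      refine Invol.orderOf_eq_two_iff.2 ⟨fun e1 => ?_, ?_⟩
      · rw [ew_append, ew_single] at e1
        refine hne ?_
        have hinv6 := (tv_data (v := 6) (by norm_num) (by norm_num)).2
        show inv [1] = _
        rw [← hinv6]
        refine inv_eq_of_isConj (okW_single (by norm_num)) hW ?_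
        rw [ew_single, eq_inv_of_mul_eq_one_left e1, inv_eq_of_mul_eq_one_right (tv_mul_self 6)]
      · rw [ew_append, ew_single, (show Commute (ew (repW 2)) (tv 6) by
          rw [← ew_single]; exact (ew_comm t3).symm).symm.mul_mul_mul_comm,
          (Invol.orderOf_eq_two_iff.1 hr).2, tv_mul_self, one_mul]
    refine hvn (inv_eq_of_isConj (okW_append hW (okW_single hv0)) (okW_append hW (okW_single (by norm_num))) ?_)
    exact (E.control h o6 (by rw [← E.orderOf_φ, ← e2, Invol.orderOf_conj, E.orderOf_φ, o6])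
      (isConj_iff.2 ⟨z, e2⟩)).symm
  have hwp : w * p = c' := by rw [hp, ← mul_assoc, hww, one_mul]
  have hinvp : p⁻¹ = c' * w := by
    rw [hp, mul_inv_rev, inv_eq_of_mul_eq_one_right hww, inv_eq_of_mul_eq_one_right hcc]
  have hwconj : ∀ k : ℕ, p ^ k * w = w * (p⁻¹) ^ k := by
    intro k
    induction k with
    | zero => simp
    | succ k ih =>
      rw [pow_succ, mul_assoc, show p * w = w * p⁻¹ by rw [hinvp, hp, mul_assoc], ← mul_assoc, ih,
        mul_assoc, ← pow_succ]
  have rot : ∀ k : ℕ, p ^ k * w * (p ^ k)⁻¹ = w * (p ^ (2 * k))⁻¹ := fun k => by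
    rw [hwconj, inv_pow, two_mul, pow_add, mul_inv_rev, mul_assoc]
  -- the order of the product is even
  obtain ⟨m, hm⟩ : ∃ m, orderOf p = 2 * m := by
    rcases Nat.even_or_odd (orderOf p) with ⟨m, hm⟩ | ⟨k, hk⟩
    · exact ⟨m, by omega⟩
    · exfalso
      refine notconj (p ^ k) (hpx.pow_left k) ?_
      rw [rot, show (p ^ (2 * k))⁻¹ = p by
        refine inv_eq_of_mul_eq_one_right ?_
        rw [← pow_succ, ← hk, pow_orderOf_eq_one], hwp]
  set d := p ^ m with hd
  have hd1 : d ≠ 1 := fun e => by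
    have := Nat.le_of_dvd (Nat.pos_of_ne_zero fun h0 => by
      have := orderOf_pos p
      omega) (orderOf_dvd_of_pow_eq_one e)
    have := orderOf_pos p
    omega
  have hdd : d * d = 1 := by rw [hd, ← pow_add, ← two_mul, ← hm, pow_orderOf_eq_one]
  have hdi : (p⁻¹) ^ m = d := by rw [inv_pow]; exact inv_eq_of_mul_eq_one_right hdd
  have hdw : Commute d w := by show d * w = w * d; rw [hd, hwconj, hdi]
  have hdc : Commute d c' := by
    rw [← hwp]; exact hdw.mul_right ((Commute.refl p).pow_left m)
  obtain ⟨D, hD⟩ := hgood6 d hdw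
  have hD2 : orderOf D = 2 := by
    rw [← E.orderOf_φ, hD]; exact Invol.orderOf_eq_two_iff.2 ⟨hd1, hdd⟩
  by_contra hout
  -- the central involution of the dihedral group is in the third class
  have hDT : IsConj (ew (repW 2)) D := by
    obtain ⟨k, j, hj, hk⟩ := involution_cases D hD2
    have e : IsConj (ew (repW j)) D := isConj_iff.2 ⟨k, hk⟩
    rcases hj with rfl | rfl | rfl | rfl
    · refine absurd ((E.good_tv h (v := 1) (by norm_num) (by norm_num)).conj ?_ c' (hD ▸ hdc.symm)) hout
      rw [show tv 1 = ew (repW 1) from repW_one.symm]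
      exact e
    · exact e
    · exact absurd ((E.good_of_iso h (s := 3) (by norm_num) (by norm_num) (by decide +kernel)
        (rep_order (Or.inr (Or.inr (Or.inl rfl)))) (by decide +kernel) (by decide +kernel)).conj e c'
        (hD ▸ hdc.symm)) hout
    · exact absurd ((E.good_of_iso h (s := 7) (by norm_num) (by norm_num) (by decide +kernel)
        (rep_order (Or.inr (Or.inr (Or.inr rfl)))) (by decide +kernel) (by decide +kernel)).conj e c'
        (hD ▸ hdc.symm)) hout
  obtain ⟨k, hk⟩ := isConj_iff.1 hDT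
  have hDw : Commute D (tv 6) := Commute.of_map E.inj (by rw [hD]; exact hdw)
  rcases Nat.even_or_odd m with ⟨l, hl⟩ | ⟨l, hl⟩
  · -- a second conjugate of the transvection
    have e : p ^ l * w * (p ^ l)⁻¹ = E.φ (tv 6 * D) := by
      rw [rot, show 2 * l = m by omega, map_mul, hD, ← hw, ← hd, inv_eq_of_mul_eq_one_right hdd]
    have hD6 : orderOf (tv 6 * D) = 2 := by
      rw [← E.orderOf_φ, ← e, Invol.orderOf_conj, hw, E.orderOf_φ, h6]
    obtain ⟨v, hv, -, hve⟩ := exists_tv ((isConj_tv_one (v := 6) (by norm_num) (by norm_num)).trans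
      (E.control h h6 hD6 (isConj_iff.2 ⟨p ^ l, e⟩)))
    have hDe : D = ew [v, 6] := by
      rw [show ([v, 6] : List ℕ) = [v] ++ [6] from rfl, ew_append, ew_single, ew_single, ← hve,
        mul_assoc, hDw.eq, ← mul_assoc, tv_mul_self, one_mul]
    have ht := allBelow_eq_true.1 t2 v hv
    have hi : inv (repW 2) = inv [v, 6] := inv_eq_of_isConj hW
      (okW_append (x := [v]) (y := [6]) (okW_single hv) (okW_single (by norm_num))) (by rw [← hDe]; exact hDT)
    rw [← hi, Nat.beq_refl] at ht
    exact Bool.noConfusion ht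
  · -- the product is a transvection
    have e : p ^ (l + 1) * c' * (p ^ (l + 1))⁻¹ = E.φ (tv 6 * D) := by
      rw [map_mul, hD, ← hw, ← hwp, show p ^ (l + 1) * (w * p) * (p ^ (l + 1))⁻¹ =
        p ^ (l + 1) * w * (p ^ (l + 1))⁻¹ * p by group, rot, mul_assoc,
        show 2 * (l + 1) = m + 1 by omega, pow_succ', mul_inv_rev, inv_mul_cancel_right, ← hd,
        inv_eq_of_mul_eq_one_right hdd]
    have hD6 : orderOf (tv 6 * D) = 2 := by
      rw [← E.orderOf_φ, ← e, Invol.orderOf_conj, hc', Invol.orderOf_conj, E.orderOf_φ, hv2]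
    have hconj := E.control h hv2 hD6 (isConj_iff.2 ⟨p ^ (l + 1) * g, by rw [← e, hc']; group⟩)
    have h1D : IsConj (tv 1) (tv 6 * D) := (isConj_tv_one hv0 hv00).trans hconj
    -- transported to the representative
    obtain ⟨u, hu, -, hue⟩ := exists_tv ((isConj_tv_one (v := 6) (by norm_num) (by norm_num)).trans
      (isConj_iff.2 ⟨k⁻¹, rfl⟩))
    have hkD : k⁻¹ * D * k⁻¹⁻¹ = ew (repW 2) := by rw [← hk]; group
    have hcu : Commute (ew [u]) (ew (repW 2)) := by
      rw [ew_single, ← hue, ← hkD]
      exact Setup.commute_conj.2 hDw.symm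
    have hu1 : IsConj (tv 1) (ew (repW 2 ++ [u])) := by
      refine h1D.trans (isConj_iff.2 ⟨k⁻¹, ?_⟩)
      rw [ew_append, ew_single, ← hue, ← hkD, conj_mul, hDw.eq]
    have ht := allBelow_eq_true.1 t1 u hu
    rw [sameW_of_commute (okW_single hu) hW hcu, inv_eq_of_isConj (okW_append hW (okW_single hu))
      (okW_single (v := 1) (by norm_num)) (by rw [ew_single 1]; exact hu1.symm), Nat.beq_refl] at ht
    exact Bool.noConfusion ht

/-- The centralizers of all involutions are inside. -/
theorem good_all {A : Sp} (hA : orderOf A = 2) : E.Good A := by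
  obtain ⟨k, j, hj, hk⟩ := involution_cases A hA
  refine Good.conj ?_ (isConj_iff.2 ⟨k, hk⟩)
  rcases hj with rfl | rfl | rfl | rfl
  · rw [repW_one, spD]; exact E.good_tv h (by norm_num) (by norm_num)
  · exact E.good_line h
  · exact E.good_of_iso h (s := 3) (by norm_num) (by norm_num) (by decide +kernel)
      (rep_order (Or.inr (Or.inr (Or.inl rfl)))) (by decide +kernel) (by decide +kernel)
  · exact E.good_of_iso h (s := 7) (by norm_num) (by norm_num) (by decide +kernel)
      (rep_order (Or.inr (Or.inr (Or.inr rfl)))) (by decide +kernel) (by decide +kernel)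

/-- The embedding is onto. -/
theorem range_eq_top : E.φ.range = ⊤ := by
  haveI : Fact (Nat.Prime 2) := ⟨Nat.prime_two⟩
  by_contra hne
  have hse : Cfsg.IsStronglyEmbedded E.φ.range := by
    refine (Invol.se_iff _).2 ⟨hne, ?_, fun t g ht htR hg => ?_⟩
    · rw [even_iff_two_dvd, ← Nat.card_congr (MonoidHom.ofInjective E.inj).toEquiv,
        SympMult.SpSix.card_sp z2_card]
      norm_num
    · obtain ⟨A, rfl⟩ := htR
      obtain ⟨A', hA'⟩ := hg
      rw [E.orderOf_φ] at ht
      have := E.mem_of_conj h (E.good_all h ht) ht (g := g⁻¹) (A' := A') (by rw [hA', inv_inv])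
      simpa using inv_mem this
  have := Invol.se_isConj_all hse (B.orderOf_j (i := 21) (by decide)) (B.orderOf_j (i := 1) (by decide))
  exact absurd ((h 21 1 (by decide) (by decide)).1 this) (by decide +kernel)

end Emb

end Cfsg.Agent.A12Type.Sp

namespace Cfsg.Agent.A12Type.Setup

open Subgroup

/-- The symplectic pattern. -/
theorem sp_case {G : Type*} [Group G] [Finite G] (B : Setup G) (h : B.PatS) :
    ∃ (F : Type) (_ : Field F) (_ : Fintype F),
      Fintype.card F = 2 ∧ Nonempty (G ≃* Cfsg.PSp 3 F) := by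
  obtain ⟨E⟩ := Sp.exists_emb B h
  refine ⟨ZMod 2, inferInstance, inferInstance, Sp6Local.z2_card, ?_⟩
  have hc : center (Matrix.symplecticGroup (Fin 3) (ZMod 2)) = ⊥ := by
    apply Subgroup.eq_bot_of_card_eq
    rw [Classical.card_center_symplectic (by norm_num), Sp6Local.z2_card]
    rfl
  exact ⟨(MulEquiv.ofBijective E.φ ⟨E.inj, MonoidHom.range_eq_top.1 (E.range_eq_top h)⟩).symm.trans
    ((QuotientGroup.quotientMulEquivOfEq hc).trans QuotientGroup.quotientBot).symm⟩

end Cfsg.Agent.A12Type.Setup
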