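import Cfsg.Agent.Sp6Local.SpSixFin

/-!
Invariants separating the four classes of involutions of `Sp(6,2)`: the number of displacements and
whether all displacements are orthogonal to their vectors; tables of commuting products.
-/

set_option autoImplicit false
set_option maxRecDepth 100000
set_option maxHeartbeats 1000000

namespace Cfsg.Agent.A12Type.Sp

open Sp6Local Cfsg.Agent.Compute Cfsg.Agent.StemCert Cfsg.Agent.SympMult.SpSix Cfsg.Agent.Classical Matrix

/-- The number of displacements of a word. -/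
noncomputable def ndisp (w : List ℕ) : ℕ :=
  ((Finset.range 64).image fun x => tvApp w x ^^^ x).card

/-- All displacements are orthogonal to their vectors. -/
noncomputable def altB (w : List ℕ) : Bool := allBelow 64 fun x => !bB x (tvApp w x)

/-- The invariant. -/
noncomputable def inv (w : List ℕ) : ℕ := 2 * ndisp w + cond (altB w) 1 0

/-- The number of displacements of an element. -/
noncomputable def ndispS (g : Sp) : ℕ := Nat.card (Set.range fun u => g.1 *ᵥ u + u)

/-- The semantic form of orthogonality. -/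
def altS (g : Sp) : Prop := ∀ u, sympB 3 (ZMod 2) u (g.1 *ᵥ u) = 0

theorem ndisp_eq {w : List ℕ} (hw : okW w = true) : ndisp w = ndispS (ew w) := by
  have key : Set.range (fun u => (ew w).1 *ᵥ u + u) =
      dv '' ↑((Finset.range 64).image fun x => tvApp w x ^^^ x) := by
    ext y
    simp only [Set.mem_range, Set.mem_image, Finset.mem_coe, Finset.mem_image, Finset.mem_range]
    constructor
    · rintro ⟨u, rfl⟩
      obtain ⟨x, hx, rfl⟩ := dv_surjective u
      exact ⟨_, ⟨x, hx, rfl⟩, by rw [ew_mulVec]; exact decode_xor z2_card _ _⟩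
    · rintro ⟨_, ⟨x, hx, rfl⟩, rfl⟩
      exact ⟨dv x, by rw [ew_mulVec]; exact (decode_xor z2_card _ _).symm⟩
  rw [ndispS, key, ndisp, Nat.card_coe_set_eq, Set.InjOn.ncard_image ?_, Set.ncard_coe_finset]
  intro a ha b hb e
  simp only [Finset.coe_image, Set.mem_image, Finset.coe_range, Set.mem_Iio] at ha hb
  obtain ⟨x, hx, rfl⟩ := ha
  obtain ⟨y, hy, rfl⟩ := hb
  exact decode_injOn (F := ZMod 2) (Nat.xor_lt_two_pow (n := 6) (tvApp_lt (okW_spec hw) hx) hx)
    (Nat.xor_lt_two_pow (n := 6) (tvApp_lt (okW_spec hw) hy) hy) e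

theorem altB_iff (w : List ℕ) : altB w = true ↔ altS (ew w) := by
  have key : ∀ x, sympB 3 (ZMod 2) (dv x) ((ew w).1 *ᵥ dv x) = bitF (ZMod 2) (bB x (tvApp w x)) := by
    intro x
    rw [ew_mulVec, sympB_decode z2_card]
  rw [altB, allBelow_eq_true]
  constructor
  · intro h u
    obtain ⟨x, hx, rfl⟩ := dv_surjective u
    have hb : bB x (tvApp w x) = false := by simpa using h x hx
    rw [key, hb]
    rfl
  · intro h x _
    rw [Bool.not_eq_true']
    exact bitF_injective (F := ZMod 2) ((key x).symm.trans (h (dv x)))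

theorem mulVec_cancel (c : Sp) (u : Fin 3 ⊕ Fin 3 → ZMod 2) : c.1 *ᵥ ((c⁻¹).1 *ᵥ u) = u := by
  rw [Matrix.mulVec_mulVec, ← Submonoid.coe_mul, mul_inv_cancel]
  exact Matrix.one_mulVec u

theorem ndispS_conj (c g : Sp) : ndispS (c * g * c⁻¹) = ndispS g := by
  have key : Set.range (fun u => (c * g * c⁻¹).1 *ᵥ u + u) =
      (fun u => c.1 *ᵥ u) '' Set.range (fun u => g.1 *ᵥ u + u) := by
    rw [← Set.range_comp]
    ext y
    simp only [Set.mem_range, Function.comp_apply]
    constructor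
    · rintro ⟨u, rfl⟩
      refine ⟨(c⁻¹).1 *ᵥ u, ?_⟩
      rw [Matrix.mulVec_add, mulVec_cancel, Submonoid.coe_mul, Submonoid.coe_mul,
        ← Matrix.mulVec_mulVec, ← Matrix.mulVec_mulVec]
    · rintro ⟨u, rfl⟩
      refine ⟨c.1 *ᵥ u, ?_⟩
      rw [Matrix.mulVec_add, Submonoid.coe_mul, Submonoid.coe_mul, ← Matrix.mulVec_mulVec,
        ← Matrix.mulVec_mulVec]
      congr 2
      have := mulVec_cancel c⁻¹ u
      rw [inv_inv] at this
      rw [this]
  rw [ndispS, ndispS, key, Nat.card_image_of_injective]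
  intro a b e
  have e' : (c⁻¹).1 *ᵥ (c.1 *ᵥ a) = (c⁻¹).1 *ᵥ (c.1 *ᵥ b) := congrArg ((c⁻¹).1 *ᵥ ·) e
  have h1 := mulVec_cancel c⁻¹ a
  have h2 := mulVec_cancel c⁻¹ b
  rw [inv_inv] at h1 h2
  rwa [h1, h2] at e'

theorem altS_conj (c g : Sp) : altS (c * g * c⁻¹) ↔ altS g := by
  constructor
  · intro h u
    have := h (c.1 *ᵥ u)
    rw [Submonoid.coe_mul, Submonoid.coe_mul, ← Matrix.mulVec_mulVec, ← Matrix.mulVec_mulVec] at this
    have h1 := mulVec_cancel c⁻¹ u
    rw [inv_inv] at h1
    rwa [h1, bB_lin] at this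
  · intro h u
    rw [Submonoid.coe_mul, Submonoid.coe_mul, ← Matrix.mulVec_mulVec, ← Matrix.mulVec_mulVec]
    conv_lhs => rw [show u = c.1 *ᵥ ((c⁻¹).1 *ᵥ u) from (mulVec_cancel c u).symm]
    rw [mulVec_cancel c u]
    conv_lhs => arg 1; arg 2; rw [← mulVec_cancel c u]
    rw [bB_lin]
    exact h _

theorem inv_eq_of_isConj {a b : List ℕ} (ha : okW a = true) (hb : okW b = true)
    (h : IsConj (ew a) (ew b)) : inv a = inv b := by
  obtain ⟨c, hc⟩ := isConj_iff.1 h
  have h1 : ndisp a = ndisp b := by rw [ndisp_eq ha, ndisp_eq hb, ← hc, ndispS_conj]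
  have h2 : altB a = altB b := by
    rw [Bool.eq_iff_iff, altB_iff, altB_iff, ← hc, altS_conj]
  rw [inv, inv, h1, h2]

theorem reps_ok : (okW (repW 1) && okW (repW 2) && okW (repW 3) && okW (repW 4) &&
    !Nat.beq (inv (repW 1)) (inv (repW 2)) && !Nat.beq (inv (repW 1)) (inv (repW 3)) &&
    !Nat.beq (inv (repW 1)) (inv (repW 4)) && !Nat.beq (inv (repW 2)) (inv (repW 3)) &&
    !Nat.beq (inv (repW 2)) (inv (repW 4)) && !Nat.beq (inv (repW 3)) (inv (repW 4))) = true := by
  decide +kernel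

theorem tv_inv_table : allBelow 64 (fun v => Nat.beq v 0 ||
    (Nat.beq (inv [v]) (inv [1]) && !Nat.beq (wkey [v]) (wkey []))) = true := by
  decide +kernel

/-- Only one transvection commutes with the product and the chosen one with that class of product. -/
noncomputable def isoB (w : List ℕ) (s : ℕ) : Bool :=
  allBelow 64 fun v => Nat.beq v 0 || Nat.beq v s || !(sameW ([v] ++ w) (w ++ [v])) ||
    !(sameW [v, s] [s, v]) || !(Nat.beq (inv (w ++ [v])) (inv (w ++ [s])))

theorem iso_table : (isoB (repW 3) 3 && sameW ([3] ++ repW 3) (repW 3 ++ [3]) &&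
    isoB (repW 4) 7 && sameW ([7] ++ repW 4) (repW 4 ++ [7])) = true := by
  decide +kernel

theorem line_table' : (allBelow 64 (fun v => !(sameW ([v] ++ repW 2) (repW 2 ++ [v])) ||
      !(Nat.beq (inv (repW 2 ++ [v])) (inv [1]))) &&
    allBelow 64 (fun v => !(Nat.beq (inv [v, 6]) (inv (repW 2)))) &&
    sameW ([6] ++ repW 2) (repW 2 ++ [6])) = true := by
  decide +kernel

theorem witness_table : ∃ v : Fin 64, v.val ≠ 0 ∧ sameW ([v.val] ++ repW 2) (repW 2 ++ [v.val]) = true ∧
    inv (repW 2 ++ [v.val]) ≠ inv (repW 2 ++ [6]) := by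
  decide +kernel

end Cfsg.Agent.A12Type.Sp
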