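import Cfsg.Agent.A12Type.Sp.Line
import Cfsg.Agent.A12Type.Sp.Inv
import Cfsg.Agent.Coprime.Generation
import Cfsg.Agent.Signalizer.RankGraph

/-!
An embedded `Sp(6,2)` containing the centralizer controls the fusion of its involutions, contains
the centralizers of its transvections, and the cores of the centralizers of its involutions.
-/

set_option autoImplicit false
set_option maxRecDepth 100000

namespace Cfsg.Agent.A12Type.Sp

open Subgroup Sp6Local Cfsg.Agent.Compute Cfsg.Agent.StemCert Cfsg.Agent.SympMult.SpSix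

/-- An embedded symplectic group containing the centralizer. -/
structure Emb {G : Type*} [Group G] (B : Setup G) where
  /-- the embedding -/
  φ : Sp →* G
  inj : Function.Injective φ
  range_le : B.f.range ≤ φ.range
  tv_two : φ (tv 2) = B.f (rC 4 5 false)

/-- The representatives of the four classes in the elementary subgroup. -/
def repI : Fin 4 → Fin 64 := ![21, 1, 20, 9]

theorem repI_spec : ∀ c : Fin 4, repI c ≠ 0 ∧ cS (repI c) = c.val := by
  decide +kernel

/-- The six transvections of the elementary subgroup, in three pairs with product `ek`. -/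
def trip : Fin 3 → Fin 64 × Fin 64 := ![(2, 3), (8, 12), (32, 48)]

theorem trip_spec : (∀ k, (trip k).1 ∈ seven ∧ (trip k).2 ∈ seven) ∧
    xr (xr (trip 0).1 (trip 0).2) (xr (xr (trip 1).1 (trip 1).2) (xr (trip 2).1 (trip 2).2)) = 21 := by
  refine ⟨by decide +kernel, by decide +kernel⟩

theorem isConj_of_inv {a b : List ℕ} (ha : okW a = true) (hb : okW b = true) (ha2 : orderOf (ew a) = 2)
    (hb2 : orderOf (ew b) = 2) (h : inv a = inv b) : IsConj (ew a) (ew b) := by
  obtain ⟨c, j, hj, hc⟩ := involution_cases _ ha2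
  obtain ⟨d, l, hl, hd⟩ := involution_cases _ hb2
  have hr := reps_ok
  simp only [Bool.and_eq_true, Bool.not_eq_true'] at hr
  obtain ⟨⟨⟨⟨⟨⟨⟨⟨⟨o1, o2⟩, o3⟩, o4⟩, n12⟩, n13⟩, n14⟩, n23⟩, n24⟩, n34⟩ := hr
  have ok : ∀ {j}, j = 1 ∨ j = 2 ∨ j = 3 ∨ j = 4 → okW (repW j) = true := by
    rintro j (rfl | rfl | rfl | rfl) <;> assumption
  have e : inv (repW j) = inv (repW l) := by
    rw [inv_eq_of_isConj (ok hj) ha (isConj_iff.2 ⟨c, hc⟩),
      inv_eq_of_isConj (ok hl) hb (isConj_iff.2 ⟨d, hd⟩), h]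
  have ne : ∀ {x y : ℕ}, Nat.beq x y = false → x ≠ y := fun h e => by simp [e] at h
  have hjl : j = l := by
    rcases hj with rfl | rfl | rfl | rfl <;> rcases hl with rfl | rfl | rfl | rfl <;>
      first
        | rfl
        | exact absurd e (ne (by assumption))
        | exact absurd e.symm (ne (by assumption))
  subst hjl
  exact (IsConj.symm (isConj_iff.2 ⟨c, hc⟩)).trans (isConj_iff.2 ⟨d, hd⟩)

theorem okW_single {v : ℕ} (hv : v < 64) : okW [v] = true :=
  allB_intro fun u hu => by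
    rw [List.mem_singleton] at hu
    subst hu
    rw [Nat.blt_eq]; exact hv

theorem tv_data {v : ℕ} (hv : v < 64) (h0 : v ≠ 0) : orderOf (tv v) = 2 ∧ inv [v] = inv [1] := by
  have h := allBelow_eq_true.1 tv_inv_table v hv
  simp only [Bool.or_eq_true, Bool.and_eq_true, Bool.not_eq_true', Nat.beq_eq] at h
  rcases h with h | ⟨h1, h2⟩
  · exact absurd h h0
  refine ⟨Invol.orderOf_eq_two_iff.2 ⟨fun e => ?_, tv_mul_self v⟩, h1⟩
  have := wkey_eq_of_ew (a := [v]) (b := []) (okW_single hv) rfl (by rw [ew_single, e, ew_nil])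
  rw [this] at h2
  simp at h2

theorem isConj_tv_one {v : ℕ} (hv : v < 64) (h0 : v ≠ 0) : IsConj (tv 1) (tv v) := by
  have h1 := tv_data (v := 1) (by norm_num) (by norm_num)
  obtain ⟨o, i⟩ := tv_data hv h0
  rw [← ew_single, ← ew_single v]
  exact isConj_of_inv (okW_single (by norm_num)) (okW_single hv) (by rw [ew_single]; exact h1.1)
    (by rw [ew_single]; exact o) i.symm

/-- A conjugate of a transvection is one. -/
theorem exists_tv {A : Sp} (h : IsConj (tv 1) A) : ∃ v, v < 64 ∧ v ≠ 0 ∧ A = tv v := by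
  obtain ⟨c, hc⟩ := isConj_iff.1 h
  obtain ⟨v, hv, e⟩ := exists_conj_tv c (v := 1)
  refine ⟨v, hv, fun h0 => ?_, hc.symm.trans e⟩
  subst h0
  rw [← ew_single 0, ew_eq_of_key (a := [0]) (b := []) (by decide +kernel) (by decide +kernel) (by decide +kernel), ew_nil, conj_eq_one_iff] at e
  have := (tv_data (v := 1) (by norm_num) (by norm_num)).1
  rw [e, orderOf_one] at this
  omega

namespace Emb

variable {G : Type*} [Group G] [Finite G] {B : Setup G} (E : Emb B)

/-- The centralizer of the image is inside. -/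
def Good (A : Sp) : Prop := ∀ k : G, Commute k (E.φ A) → k ∈ E.φ.range

omit [Finite G] in
theorem orderOf_φ (A : Sp) : orderOf (E.φ A) = orderOf A := orderOf_injective E.φ E.inj A

omit [Finite G] in
theorem mem_j (i : Fin 64) : B.j i ∈ E.φ.range := E.range_le ⟨el i, rfl⟩

omit [Finite G] in
theorem Good.conj {E : Emb B} {A A' : Sp} (hA : E.Good A) (h : IsConj A A') : E.Good A' := by
  obtain ⟨c, rfl⟩ := isConj_iff.1 h
  intro k hk
  have h1 : Commute ((E.φ c)⁻¹ * k * E.φ c) (E.φ A) := by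
    rw [← Setup.commute_conj (g := E.φ c), show E.φ c * ((E.φ c)⁻¹ * k * E.φ c) * (E.φ c)⁻¹ = k by group,
      ← map_inv, ← map_mul, ← map_mul]
    exact hk
  have h2 := mul_mem (mul_mem (show E.φ c ∈ E.φ.range from ⟨c, rfl⟩) (hA _ h1))
    (inv_mem (show E.φ c ∈ E.φ.range from ⟨c, rfl⟩))
  rwa [show E.φ c * ((E.φ c)⁻¹ * k * E.φ c) * (E.φ c)⁻¹ = k by group] at h2

variable (h : B.PatS)
include h

/-- Conjugate involutions of the image are conjugate in it. -/
theorem control {A A' : Sp} (hA : orderOf A = 2) (hA' : orderOf A' = 2)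
    (hc : IsConj (E.φ A) (E.φ A')) : IsConj A A' := by
  classical
  have rep : ∀ c : Fin 4, ∃ j : Fin 4, IsConj (B.j (repI c)) (E.φ (ew (repW (j.val + 1)))) := by
    intro c
    obtain ⟨X, hX⟩ := E.mem_j (repI c)
    have hX2 : orderOf X = 2 := by rw [← E.orderOf_φ, hX, B.orderOf_j (repI_spec c).1]
    obtain ⟨d, j, hj, hd⟩ := involution_cases X hX2
    refine ⟨⟨j - 1, by omega⟩, ?_⟩
    rw [show j - 1 + 1 = j by omega, ← hX, ← hd]
    exact (isConj_iff.2 ⟨E.φ d, by simp⟩ : IsConj (E.φ (ew (repW j))) (E.φ (d * ew (repW j) * d⁻¹))).symm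
  choose m hm using rep
  have minj : Function.Injective m := by
    intro c c' e
    have h1 : IsConj (B.j (repI c)) (B.j (repI c')) := (hm c).trans (e ▸ (hm c').symm)
    have := (h _ _ (repI_spec c).1 (repI_spec c').1).1 h1
    rw [(repI_spec c).2, (repI_spec c').2] at this
    exact Fin.ext this
  obtain ⟨d, p, hp, hd⟩ := involution_cases A hA
  obtain ⟨d', q, hq, hd'⟩ := involution_cases A' hA'
  have e1 : IsConj (ew (repW p)) A := isConj_iff.2 ⟨d, hd⟩
  have e2 : IsConj (ew (repW q)) A' := isConj_iff.2 ⟨d', hd'⟩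
  obtain ⟨c, hcp⟩ := (Finite.injective_iff_surjective.1 minj) ⟨p - 1, by omega⟩
  obtain ⟨c', hcq⟩ := (Finite.injective_iff_surjective.1 minj) ⟨q - 1, by omega⟩
  have h1 := hm c
  have h2 := hm c'
  rw [hcp] at h1
  rw [hcq] at h2
  simp only [show p - 1 + 1 = p by omega] at h1
  simp only [show q - 1 + 1 = q by omega] at h2
  have h3 : IsConj (B.j (repI c)) (B.j (repI c')) :=
    h1.trans (((E.φ.map_isConj e1).trans (hc.trans (E.φ.map_isConj e2).symm)).trans h2.symm)
  have hcc := (h _ _ (repI_spec c).1 (repI_spec c').1).1 h3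
  rw [(repI_spec c).2, (repI_spec c').2] at hcc
  obtain rfl : c = c' := Fin.ext hcc
  have hpq : p = q := by
    have := congrArg Fin.val (hcp.symm.trans hcq)
    simp only at this
    omega
  subst hpq
  exact e1.symm.trans e2

/-- An element conjugating an involution with good centralizer inside the image is in it. -/
theorem mem_of_conj {A A' : Sp} (hA : E.Good A) (hA2 : orderOf A = 2) {g : G}
    (hg : g * E.φ A * g⁻¹ = E.φ A') : g ∈ E.φ.range := by
  have hA'2 : orderOf A' = 2 := by rw [← E.orderOf_φ, ← hg, Invol.orderOf_conj, E.orderOf_φ, hA2]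
  obtain ⟨c, hc⟩ := isConj_iff.1 (E.control h hA2 hA'2 (isConj_iff.2 ⟨g, hg⟩))
  have hk : Commute ((E.φ c)⁻¹ * g) (E.φ A) := by
    refine mul_inv_eq_iff_eq_mul.1 ?_
    rw [show (E.φ c)⁻¹ * g * E.φ A * ((E.φ c)⁻¹ * g)⁻¹ = (E.φ c)⁻¹ * (g * E.φ A * g⁻¹) * E.φ c by group,
      hg, ← hc, map_mul, map_mul, map_inv]
    group
  have := mul_mem (show E.φ c ∈ E.φ.range from ⟨c, rfl⟩) (hA _ hk)
  rwa [mul_inv_cancel_left] at this

/-- The centralizers of the transvections are inside. -/
theorem good_tv {v : ℕ} (hv : v < 64) (h0 : v ≠ 0) : E.Good (tv v) := by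
  obtain ⟨A, hA⟩ := E.range_le (show B.a ∈ B.f.range from ⟨tc, rfl⟩)
  have hgA : E.Good A := fun k hk => E.range_le (B.mem_range_of_commute (hA ▸ hk))
  have h2 : IsConj A (tv 2) := E.control h (by rw [← E.orderOf_φ, hA, B.orderOf_a])
    (tv_data (by norm_num) (by norm_num)).1 (by
      rw [hA, E.tv_two]
      exact B.tr_refl h ⟨4, 5, false, by decide, rfl⟩)
  exact hgA.conj (h2.trans ((isConj_tv_one (by norm_num) (by norm_num)).symm.trans (isConj_tv_one hv h0)))

theorem good_seven {i : Fin 64} (hi : i ∈ seven) {k : G} (hk : Commute k (B.j i)) : k ∈ E.φ.range := by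
  obtain ⟨A, hA⟩ := E.mem_j i
  have h1 : IsConj (tv 2) A := E.control h (tv_data (by norm_num) (by norm_num)).1
    (by rw [← E.orderOf_φ, hA, B.orderOf_j ((seven_spec i).2 hi).1]) (by
      rw [hA, E.tv_two]
      exact (B.tr_refl h ⟨4, 5, false, by decide, rfl⟩).symm.trans (B.tr_seven h hi))
  exact (E.good_tv h (by norm_num) (by norm_num)).conj h1 k (hA ▸ hk)

/-- An odd subgroup normalised by the elementary subgroup is inside. -/
theorem odd_le {O : Subgroup G} (hO : ¬ 2 ∣ Nat.card O) (hJ : ∀ i, B.j i ∈ normalizer (O : Set G)) :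
    O ≤ E.φ.range := by
  have inv : ∀ i : Fin 64, ∀ Y : Subgroup G, B.j i ∈ normalizer (Y : Set G) → ∀ l : Fin 64,
      B.j i ∈ normalizer ((Y ⊓ centralizer ({B.j l} : Set G) : Subgroup G) : Set G) := by
    intro i Y hY l
    refine mem_normalizer_iff.2 fun x => ?_
    have hc : ∀ x : G, Commute (B.j i * x * (B.j i)⁻¹) (B.j l) ↔ Commute x (B.j l) := fun x => by
      conv_lhs => rw [← show B.j i * B.j l * (B.j i)⁻¹ = B.j l from mul_inv_eq_iff_eq_mul.2 (B.j_comm i l).eq]
      exact Setup.commute_conj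
    constructor
    · rintro ⟨h1, h2⟩
      exact ⟨(mem_normalizer_iff.1 hY x).1 h1,
        mem_centralizer_singleton_iff.2 ((hc x).2 (mem_centralizer_singleton_iff.1 h2)).eq⟩
    · rintro ⟨h1, h2⟩
      exact ⟨(mem_normalizer_iff.1 hY x).2 h1,
        mem_centralizer_singleton_iff.2 ((hc x).1 (mem_centralizer_singleton_iff.1 h2)).eq⟩
  have step : ∀ k : Fin 3, ∀ Y : Subgroup G, ¬ 2 ∣ Nat.card Y → (∀ i, B.j i ∈ normalizer (Y : Set G)) →
      Y ⊓ centralizer ({B.j (xr (trip k).1 (trip k).2)} : Set G) ≤ E.φ.range → Y ≤ E.φ.range := by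
    intro k Y hY hn h3
    obtain ⟨s1, s2⟩ := trip_spec.1 k
    refine Coprime.le_of_centralizers_le (B.j_comm (trip k).1 (trip k).2) (hn _) (hn _) Nat.prime_two
      (by rw [pow_two, B.j_mul_self]; exact one_mem _) (by rw [pow_two, B.j_mul_self]; exact one_mem _)
      (Nat.prime_two.coprime_iff_not_dvd.2 hY) ?_
      (fun x hx => E.good_seven h s1 (mem_centralizer_singleton_iff.1 hx.2)) fun n => ?_
    · have hle : (closure {B.j (trip k).1, B.j (trip k).2} : Subgroup G) ≤ B.J := by
        rw [closure_le]; rintro y (rfl | rfl) <;> exact B.j_mem _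
      obtain ⟨m, hm⟩ := IsPGroup.iff_card.1
        ((IsPGroup.of_card (n := 6) (by rw [B.card_J]; norm_num) : IsPGroup 2 B.J).to_le hle)
      rw [hm]
      exact (Nat.prime_two.coprime_iff_not_dvd.2 hY).pow_left m
    · rcases Nat.even_or_odd n with ⟨l, rfl⟩ | ⟨l, rfl⟩
      · rw [← two_mul, pow_mul, pow_two, B.j_mul_self, one_pow, one_mul]
        exact fun x hx => E.good_seven h s2 (mem_centralizer_singleton_iff.1 hx.2)
      · rw [pow_add, pow_mul, pow_two, B.j_mul_self, one_pow, pow_one, one_mul, B.j_mul]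
        exact h3
  refine step 0 O hO hJ ?_
  refine step 1 _ (fun h2 => hO (h2.trans (card_dvd_of_le inf_le_left))) (fun i => inv i _ (hJ i) _) ?_
  refine step 2 _ (fun h2 => hO (h2.trans (card_dvd_of_le (inf_le_left.trans inf_le_left))))
    (fun i => inv i _ (inv i _ (hJ i) _) _) ?_
  rintro x ⟨⟨⟨-, h0⟩, h1⟩, h2⟩
  refine E.good_seven h (i := 21) (by decide) ?_
  rw [← trip_spec.2, ← B.j_mul (xr (trip 0).1 (trip 0).2),
    ← B.j_mul (xr (trip 1).1 (trip 1).2)]
  exact Commute.mul_right (mem_centralizer_singleton_iff.1 h0)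
    (Commute.mul_right (mem_centralizer_singleton_iff.1 h1) (mem_centralizer_singleton_iff.1 h2))

/-- The core of the centralizer of an involution of the image is inside. -/
theorem core_le {A : Sp} (hA : orderOf A = 2) : centralizerPPrimeCore 2 (E.φ A) ≤ E.φ.range := by
  classical
  haveI : Fact (Nat.Prime 2) := ⟨Nat.prime_two⟩
  -- move into the elementary subgroup
  obtain ⟨P, hP⟩ := B.sylow
  obtain ⟨Q, hQ⟩ := (show IsPGroup 2 (zpowers A) from
    IsPGroup.of_card (n := 1) (by rw [Nat.card_zpowers, hA, pow_one])).exists_le_sylow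
  obtain ⟨S0, hS0⟩ : ∃ S0 : Sylow 2 Sp, ∀ X ∈ (S0 : Subgroup Sp), E.φ X ∈ S12.map B.f := by
    have hle : (P : Subgroup G) ≤ E.φ.range := hP ▸ (map_le_range B.f _).trans E.range_le
    refine ⟨P.comapOfInjective E.φ E.inj hle, fun X hX => ?_⟩
    rw [Sylow.coe_comapOfInjective, mem_comap, hP] at hX
    exact hX
  obtain ⟨c, hc⟩ := MulAction.exists_smul_eq Sp Q S0
  have hcA : c * A * c⁻¹ ∈ (S0 : Subgroup Sp) := by
    rw [← hc, Sylow.coe_subgroup_smul]
    exact smul_mem_pointwise_smul _ (MulAut.conj c) _ (hQ (mem_zpowers A))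
  obtain ⟨y, -, hy⟩ := hS0 _ hcA
  have hyy : y * y = 1 := B.inj (by
    rw [map_mul, map_one, hy, ← map_mul, conj_mul, (Invol.orderOf_eq_two_iff.1 hA).2, mul_one,
      mul_inv_cancel, map_one])
  obtain ⟨g, hg⟩ := B.exists_conj_mem_J (B.commute_a y) (by rw [← map_mul, hyy, map_one])
  obtain ⟨i, hi⟩ := B.mem_J.1 hg
  obtain ⟨g', hg'⟩ := E.range_le (show B.f g ∈ B.f.range from ⟨g, rfl⟩)
  set k := E.φ (g' * c) with hk
  have e : k * E.φ A * k⁻¹ = B.j i := by
    rw [hi, hy, hk, ← hg', map_mul, map_mul, map_mul, map_inv]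
    group
  have h1 : centralizerPPrimeCore 2 (B.j i) ≤ E.φ.range := by
    refine E.odd_le h ?_ fun l => ?_
    · rw [centralizerPPrimeCore, card_map_of_injective (subtype_injective _)]
      exact Core.not_dvd_card_pPrimeCore
    · refine mem_normalizer_iff.2 fun x => ?_
      have step : ∀ x ∈ centralizerPPrimeCore 2 (B.j i),
          B.j l * x * (B.j l)⁻¹ ∈ centralizerPPrimeCore 2 (B.j i) := by
        rintro _ ⟨o, ho, rfl⟩
        exact ⟨(⟨B.j l, mem_centralizer_singleton_iff.2 (B.j_comm l i).eq⟩ :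
          centralizer ({B.j i} : Set G)) * o * (⟨B.j l, mem_centralizer_singleton_iff.2
            (B.j_comm l i).eq⟩ : centralizer ({B.j i} : Set G))⁻¹,
          (Core.pPrimeCore_normal).conj_mem o ho _, rfl⟩
      refine ⟨step x, fun hx => ?_⟩
      have := step _ hx
      rw [inv_eq_of_mul_eq_one_right (B.j_mul_self l)] at this
      rwa [show B.j l * (B.j l * x * B.j l) * B.j l = B.j l * B.j l * x * (B.j l * B.j l) by
        simp only [mul_assoc], B.j_mul_self, one_mul, mul_one] at this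
  rw [← e, Signalizer.core_conj] at h1
  intro x hx
  have hkr : k ∈ E.φ.range := ⟨_, rfl⟩
  have := mul_mem (mul_mem (inv_mem hkr) (h1 ⟨x, hx, rfl⟩)) hkr
  simpa [mul_assoc] using this

end Emb

/-- The embedding. -/
theorem exists_emb {G : Type*} [Group G] [Finite G] (B : Setup G) (h : B.PatS) : Nonempty (Emb B) := by
  obtain ⟨K, e, hle, hm, he⟩ := B.exists_K h
  refine ⟨⟨K.subtype.comp e.symm.toMonoidHom, K.subtype_injective.comp e.symm.injective, ?_, ?_⟩⟩
  · intro x hx
    exact ⟨e ⟨x, hle hx⟩, by simp⟩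
  · show (e.symm (tv 2) : G) = _
    rw [← he, MulEquiv.symm_apply_apply]

end Cfsg.Agent.A12Type.Sp
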