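import Cfsg.Agent.A12Type.Defs

/-!
The thirty reflections of the model centralizer as a group of type `D6`: six of them generate it, they
form classes, and the tables needed in the symplectic pattern.
-/

set_option autoImplicit false
set_option maxRecDepth 100000

namespace Cfsg.Agent.A12Type.Sp

open Equiv Subgroup

/-- A point of a pair. -/
def pt (i : Fin 6) (b : Bool) : Fin 12 := Fin.ofNat 12 (2 * i.val + cond b 1 0)

/-- The reflection exchanging two pairs, crossed if `b`. -/
def rP (i j : Fin 6) (b : Bool) : Perm (Fin 12) :=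
  Equiv.swap (pt i false) (pt j b) * Equiv.swap (pt i true) (pt j (!b))

theorem rP_tc : ∀ i j b, ∀ p : Fin 12, rP i j b (tcP p) = tcP (rP i j b p) := by
  decide +kernel

theorem pt_eq_iff : ∀ i j b, (pt i false = pt j b ↔ pt i true = pt j (!b)) := by
  decide +kernel

theorem rP_mem (i j : Fin 6) (b : Bool) : rP i j b ∈ C12 := by
  refine mem_C12 ?_ (rP_tc i j b)
  rw [rP, map_mul, Perm.sign_swap', Perm.sign_swap']
  by_cases h : pt i false = pt j b
  · rw [if_pos h, if_pos ((pt_eq_iff i j b).1 h), one_mul]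
  · rw [if_neg h, if_neg (fun h' => h ((pt_eq_iff i j b).2 h')), Int.units_mul_self]

/-- The reflection as an element of the centralizer. -/
def rC (i j : Fin 6) (b : Bool) : C12 := ⟨rP i j b, rP_mem i j b⟩

theorem rC_eq {i j i' j' : Fin 6} {b b' : Bool} (h : rP i j b = rP i' j' b') : rC i j b = rC i' j' b' :=
  Subtype.ext h

/-- The six generators. -/
def sixI : Fin 6 → Fin 6 × Fin 6 × Bool :=
  ![(0, 1, false), (1, 2, false), (2, 3, false), (3, 4, false), (4, 5, false), (4, 5, true)]

/-- The six generators as elements. -/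
def six (k : Fin 6) : C12 := rC (sixI k).1 (sixI k).2.1 (sixI k).2.2

theorem six_mul_self : ∀ k, six k * six k = 1 := by
  have h : ∀ k, rP (sixI k).1 (sixI k).2.1 (sixI k).2.2 * rP (sixI k).1 (sixI k).2.1 (sixI k).2.2 = 1 := by
    decide +kernel
  exact fun k => Subtype.ext (h k)

theorem rel_plain : ∀ i j k : Fin 6, i ≠ j → i ≠ k → j ≠ k → ∀ b,
    rP j k false * rP i j b * rP j k false = rP i k b := by
  decide +kernel

theorem rP_symm : ∀ i j b, rP i j b = rP j i b := by
  decide +kernel

theorem rP_self : ∀ i b, rP i i b = 1 := by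
  decide +kernel

theorem mem_closure_rC (i j : Fin 6) (b : Bool) : rC i j b ∈ closure (Set.range six) := by
  set H := closure (Set.range six)
  have g : ∀ k, six k ∈ H := fun k => subset_closure ⟨k, rfl⟩
  have step : ∀ {i j k : Fin 6} {b : Bool}, i ≠ j → i ≠ k → j ≠ k → rC i j b ∈ H → rC j k false ∈ H →
      rC i k b ∈ H := by
    intro i j k b h1 h2 h3 ha hc
    rw [show rC i k b = rC j k false * rC i j b * rC j k false from
      Subtype.ext (rel_plain i j k h1 h2 h3 b).symm]
    exact mul_mem (mul_mem hc ha) hc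
  have symm : ∀ {i j : Fin 6} {b : Bool}, rC i j b ∈ H → rC j i b ∈ H := fun {i j b} h => by
    rwa [rC_eq (rP_symm j i b)]
  have adj : ∀ k : ℕ, ∀ hk : k < 5, rC ⟨k, by omega⟩ ⟨k + 1, by omega⟩ false ∈ H := by
    intro k hk
    interval_cases k
    exacts [g 0, g 1, g 2, g 3, g 4]
  have up : ∀ d : ℕ, ∀ k : ℕ, ∀ hk : k + d + 1 < 6,
      rC ⟨k, by omega⟩ ⟨k + d + 1, hk⟩ false ∈ H := by
    intro d
    induction d with
    | zero => exact fun k hk => adj k (by omega)
    | succ d ih =>
      intro k hk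
      exact step (j := ⟨k + d + 1, by omega⟩) (Fin.ne_of_val_ne (by dsimp only; omega))
        (Fin.ne_of_val_ne (by dsimp only; omega)) (Fin.ne_of_val_ne (by dsimp only; omega)) (ih k (by omega)) (adj (k + d + 1) (by omega))
  have plain : ∀ i j : Fin 6, rC i j false ∈ H := by
    intro i j
    rcases lt_trichotomy i.val j.val with h | h | h
    · obtain ⟨d, hd⟩ : ∃ d, j.val = i.val + d + 1 := ⟨j.val - i.val - 1, by omega⟩
      have := up d i.val (by omega)
      rwa [show (⟨i.val + d + 1, _⟩ : Fin 6) = j from Fin.ext hd.symm] at this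
    · obtain rfl : i = j := Fin.ext h
      rw [show rC i i false = 1 from Subtype.ext (rP_self i false)]
      exact one_mem _
    · obtain ⟨d, hd⟩ : ∃ d, i.val = j.val + d + 1 := ⟨i.val - j.val - 1, by omega⟩
      have := up d j.val (by omega)
      rw [show (⟨j.val + d + 1, _⟩ : Fin 6) = i from Fin.ext hd.symm] at this
      exact symm this
  cases b
  · exact plain i j
  by_cases hij : i = j
  · subst hij
    rw [show rC i i true = 1 from Subtype.ext (rP_self i true)]
    exact one_mem _
  -- the crossed reflections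
  have last : ∀ m : Fin 6, m ≠ 5 → rC m 5 true ∈ H := by
    intro m hm
    by_cases h4 : m = 4
    · subst h4; exact g 5
    · exact symm (step (i := 5) (j := 4) (by decide) (fun e => hm e.symm) (fun e => h4 e.symm)
        (symm (g 5)) (plain 4 m))
  by_cases hi : i = 5
  · subst hi; exact symm (last j fun e => hij e.symm)
  by_cases hj : j = 5
  · subst hj; exact last i hi
  exact step (j := 5) hi hij (fun e => hj e.symm) (last i hi) (plain 5 j)

/-- The step moving a point to the first free one. -/
def stepI (k : Fin 5) (p : Fin 12) : C12 :=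
  if p.val / 2 = k.val then
    (if p.val % 2 = 0 then 1 else rC (k.castSucc) 5 false * rC (k.castSucc) 5 true)
  else rC (k.castSucc) (Fin.ofNat 6 (p.val / 2)) (p.val % 2 == 1)

theorem stepI_spec : ∀ k : Fin 5, ∀ p : Fin 12, 2 * k.val ≤ p.val →
    ((stepI k p : Perm (Fin 12)) p).val = 2 * k.val ∧
      ∀ q : Fin 12, q.val < 2 * k.val → (stepI k p : Perm (Fin 12)) q = q := by
  decide +kernel

/-- The six reflections generate the centralizer. -/
theorem closure_six : closure (Set.range six) = ⊤ := by
  set H := closure (Set.range six)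
  have key : ∀ n : ℕ, n ≤ 5 → ∀ x : C12, ∃ h ∈ H, ∀ q : Fin 12, q.val < 2 * n →
      ((h * x : C12) : Perm (Fin 12)) q = q := by
    intro n
    induction n with
    | zero => exact fun _ x => ⟨1, one_mem _, fun q hq => by omega⟩
    | succ n ih =>
      intro hn x
      obtain ⟨h, hh, hfix⟩ := ih (by omega) x
      set y : C12 := h * x with hy
      set p := (y : Perm (Fin 12)) ⟨2 * n, by omega⟩ with hp
      have hp2 : 2 * n ≤ p.val := by
        by_contra hlt
        have e := (y : Perm (Fin 12)).injective (hfix p (by omega))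
        rw [hp] at e
        have := congrArg Fin.val e
        simp only at this
        rw [← hp] at this
        omega
      obtain ⟨s1, s2⟩ := stepI_spec ⟨n, by omega⟩ p hp2
      refine ⟨stepI ⟨n, by omega⟩ p * h, mul_mem ?_ hh, fun q hq => ?_⟩
      · unfold stepI
        split_ifs
        exacts [one_mem _, mul_mem (mem_closure_rC _ _ _) (mem_closure_rC _ _ _), mem_closure_rC _ _ _]
      rw [mul_assoc, ← hy, Subgroup.coe_mul, Perm.mul_apply]
      have base : ∀ q : Fin 12, q.val = 2 * n →
          (stepI ⟨n, by omega⟩ p : Perm (Fin 12)) ((y : Perm (Fin 12)) q) = q := by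
        intro q hq
        rw [show q = ⟨2 * n, by omega⟩ from Fin.ext hq]
        exact Fin.ext (by rw [← hp, s1])
      by_cases hlt : q.val < 2 * n
      · rw [hfix q hlt, s2 q hlt]
      by_cases heq : q.val = 2 * n
      · exact base q heq
      · obtain ⟨q0, hq0, rfl⟩ : ∃ q0 : Fin 12, q0.val = 2 * n ∧ q = tcP q0 := by
          refine ⟨⟨2 * n, by omega⟩, rfl, ?_⟩
          have hh : ∀ m : Fin 6, ∀ u : Fin 12, u.val = 2 * m.val + 1 →
              u = tcP (Fin.ofNat 12 (2 * m.val)) := by decide +kernel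
          rw [hh ⟨n, by omega⟩ q (by simp only; omega)]
          congr 1
          exact Fin.ext (Nat.mod_eq_of_lt (by omega))
        rw [comm_tc y.2, comm_tc (stepI _ p).2, base q0 hq0]
  refine eq_top_iff.2 fun x _ => ?_
  obtain ⟨h, hh, hfix⟩ := key 5 le_rfl x
  set y : C12 := h * x with hy
  suffices hy1 : y = 1 by
    rw [show x = h⁻¹ * y by rw [hy, inv_mul_cancel_left], hy1, mul_one]
    exact inv_mem hh
  have hsgn : Perm.sign (y : Perm (Fin 12)) = 1 := Perm.mem_alternatingGroup.1 (Subgroup.mem_inf.1 y.2).1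
  have h10 : (y : Perm (Fin 12)) 10 = 10 ∨ (y : Perm (Fin 12)) 10 = 11 := by
    have hcases : ∀ u : Fin 12, u.val < 10 ∨ u = 10 ∨ u = 11 := by decide
    rcases hcases ((y : Perm (Fin 12)) 10) with h | h | h
    · have := congrArg Fin.val ((y : Perm (Fin 12)).injective (hfix _ h))
      rw [show ((10 : Fin 12).val) = 10 from rfl] at this
      omega
    · exact Or.inl h
    · exact Or.inr h
  have h11 : (y : Perm (Fin 12)) 11 = tcP ((y : Perm (Fin 12)) 10) := by
    rw [← comm_tc y.2]
    exact congrArg _ (by decide +kernel)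
  have hcases : ∀ u : Fin 12, u.val < 10 ∨ u = 10 ∨ u = 11 := by decide
  rcases h10 with e | e
  · refine Subtype.ext (Equiv.ext fun q => ?_)
    rcases hcases q with h | rfl | rfl
    · exact hfix q h
    · exact e
    · rw [h11, e]; decide +kernel
  · exfalso
    have hy' : (y : Perm (Fin 12)) = Equiv.swap 10 11 := Equiv.ext fun q => by
      rcases hcases q with h | rfl | rfl
      · rw [hfix q h, Equiv.swap_apply_of_ne_of_ne] <;> intro e' <;> rw [e'] at h <;> simp at h
      · rw [e, Equiv.swap_apply_left]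
      · rw [h11, e, Equiv.swap_apply_right]; decide +kernel
    rw [hy', Perm.sign_swap (by decide)] at hsgn
    exact absurd hsgn (by decide)

/-- Being a reflection. -/
def IsR (x : C12) : Prop := ∃ i j b, i ≠ j ∧ x = rC i j b

/-- The image of a reflection under a generator. -/
def img (k : Fin 6) (r : Fin 6 × Fin 6 × Bool) : Fin 6 × Fin 6 × Bool :=
  let π := Equiv.swap (sixI k).1 (sixI k).2.1
  let hit := fun i : Fin 6 => (sixI k).2.2 && (i == (sixI k).1 || i == (sixI k).2.1)
  (π r.1, π r.2.1, xor r.2.2 (xor (hit r.1) (hit r.2.1)))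

theorem img_spec : ∀ k i j b, i ≠ j →
    rP (sixI k).1 (sixI k).2.1 (sixI k).2.2 * rP i j b * rP (sixI k).1 (sixI k).2.1 (sixI k).2.2 =
      rP (img k (i, j, b)).1 (img k (i, j, b)).2.1 (img k (i, j, b)).2.2 := by
  decide +kernel

theorem IsR.conj {x : C12} (hx : IsR x) (c : C12) : IsR (c * x * c⁻¹) := by
  have hc : c ∈ closure (Set.range six) := closure_six ▸ mem_top c
  induction hc using closure_induction_left with
  | one => simpa using hx
  | mul_left s hs y _ ih =>
    obtain ⟨k, rfl⟩ := hs
    obtain ⟨i, j, b, hij, e⟩ := ih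
    refine ⟨(img k (i, j, b)).1, (img k (i, j, b)).2.1, (img k (i, j, b)).2.2,
      fun h => hij ((Equiv.swap _ _).injective h), ?_⟩
    rw [mul_inv_rev, inv_eq_of_mul_eq_one_right (six_mul_self k),
      show six k * y * x * (y⁻¹ * six k) = six k * (y * x * y⁻¹) * six k by group, e]
    exact Subtype.ext (img_spec k i j b hij)
  | inv_mul_cancel s hs y _ ih =>
    obtain ⟨k, rfl⟩ := hs
    obtain ⟨i, j, b, hij, e⟩ := ih
    refine ⟨(img k (i, j, b)).1, (img k (i, j, b)).2.1, (img k (i, j, b)).2.2,
      fun h => hij ((Equiv.swap _ _).injective h), ?_⟩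
    rw [inv_eq_of_mul_eq_one_right (six_mul_self k), mul_inv_rev,
      inv_eq_of_mul_eq_one_right (six_mul_self k),
      show six k * y * x * (y⁻¹ * six k) = six k * (y * x * y⁻¹) * six k by group, e]
    exact Subtype.ext (img_spec k i j b hij)

/-- The indices of the transvection class. -/
def seven : List (Fin 64) := [21, 2, 3, 8, 12, 32, 48]

theorem seven_spec : ∀ i : Fin 64, (i ≠ 0 ∧ cS i = 0) ↔ i ∈ seven := by
  decide +kernel

theorem seven_refl : elP 2 = rP 0 1 false ∧ elP 3 = rP 0 1 true ∧ elP 8 = rP 2 3 false ∧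
    elP 12 = rP 2 3 true ∧ elP 32 = rP 4 5 false ∧ elP 48 = rP 4 5 true := by
  decide +kernel

theorem el_seven {i : Fin 64} (h : i ∈ seven) : i = 21 ∨ IsR (el i) := by
  obtain ⟨e2, e3, e8, e12, e32, e48⟩ := seven_refl
  simp only [seven, List.mem_cons, List.not_mem_nil, or_false] at h
  rcases h with rfl | rfl | rfl | rfl | rfl | rfl | rfl
  exacts [Or.inl rfl, Or.inr ⟨0, 1, false, by decide, Subtype.ext e2⟩,
    Or.inr ⟨0, 1, true, by decide, Subtype.ext e3⟩, Or.inr ⟨2, 3, false, by decide, Subtype.ext e8⟩,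
    Or.inr ⟨2, 3, true, by decide, Subtype.ext e12⟩, Or.inr ⟨4, 5, false, by decide, Subtype.ext e32⟩,
    Or.inr ⟨4, 5, true, by decide, Subtype.ext e48⟩]

theorem centre_table : ∀ i : Fin 64,
    (∀ k, elP i * rP (sixI k).1 (sixI k).2.1 (sixI k).2.2 =
      rP (sixI k).1 (sixI k).2.1 (sixI k).2.2 * elP i) → i = 0 ∨ i = 21 := by
  decide +kernel

/-- The centre of the centralizer. -/
theorem center_cases {z : C12} (h : ∀ x : C12, z * x = x * z) : z = 1 ∨ z = tc := by
  obtain ⟨i, rfl⟩ := mem_J12_of_commute (x := z) fun j => h (el j)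
  rcases centre_table i (fun k => congrArg Subtype.val (h (six k))) with rfl | rfl
  exacts [Or.inl el_zero, Or.inr el_tc]

/-- The parity of the commutation of a reflection with a line of transvections. -/
theorem line_table : ∀ i ∈ seven, ∀ k ∈ seven, ∀ l ∈ seven, cS (xr i (xr k l)) = 2 → ∀ p q b, p ≠ q →
    (elP i * rP p q b = rP p q b * elP i ↔
      (elP k * rP p q b = rP p q b * elP k ↔ elP l * rP p q b = rP p q b * elP l)) := by
  decide +kernel

theorem cube_table : ∀ p q b, rP 0 1 false * rP p q b = rP p q b * rP 0 1 false ∨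
    (rP 0 1 false * rP p q b) * (rP 0 1 false * rP p q b) * (rP 0 1 false * rP p q b) = 1 := by
  decide +kernel

theorem noncomm_table : ∀ i ∈ seven, i ≠ 21 → ∃ p q : Fin 6, ∃ b, p ≠ q ∧
    elP i * rP p q b ≠ rP p q b * elP i := by
  decide +kernel

/-- An element moving four pairs to given ones, with a crossing. -/
def quad (l m i j : Fin 6) (b : Bool) : C12 :=
  let p1 : Perm (Fin 6) := Equiv.swap 0 l
  let p2 := Equiv.swap (p1 1) m * p1
  let p3 := Equiv.swap (p2 2) i * p2
  let c := rC (p3 3) j false * rC (p2 2) i false * rC (p1 1) m false * rC 0 l false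
  cond b (rC m i false * rC m i true * c) c

theorem quad_spec : ∀ l m i j : Fin 6, l ≠ m → l ≠ i → l ≠ j → m ≠ i → m ≠ j → i ≠ j → ∀ b,
    (quad l m i j b : Perm (Fin 12)) * rP 0 1 false = rP l m b * (quad l m i j b : Perm (Fin 12)) ∧
    (quad l m i j b : Perm (Fin 12)) * rP 2 3 false = rP i j b * (quad l m i j b : Perm (Fin 12)) ∧
    (quad l m i j b : Perm (Fin 12)) * rP 2 3 true = rP i j (!b) * (quad l m i j b : Perm (Fin 12)) := by
  decide +kernel

theorem exists_pair : ∀ l m : Fin 6, l ≠ m → ∃ i j : Fin 6, l ≠ i ∧ l ≠ j ∧ m ≠ i ∧ m ≠ j ∧ i ≠ j := by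
  decide +kernel

/-- Two reflections commute or have product of order three. -/
theorem IsR.cube {x y : C12} (hx : IsR x) (hy : IsR y) :
    x * y = y * x ∨ x * y * (x * y) * (x * y) = 1 := by
  obtain ⟨l, m, b, hlm, rfl⟩ := hx
  obtain ⟨i, j, h1, h2, h3, h4, h5⟩ := exists_pair l m hlm
  set c := quad l m i j b with hc
  have e : c * rC 0 1 false * c⁻¹ = rC l m b :=
    mul_inv_eq_iff_eq_mul.2 (Subtype.ext (quad_spec l m i j hlm h1 h2 h3 h4 h5 b).1)
  obtain ⟨p, q, d, -, e'⟩ := hy.conj c⁻¹
  rw [inv_inv] at e'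
  have ey : y = c * rC p q d * c⁻¹ := by rw [← e']; group
  rw [← e, ey]
  rcases cube_table p q d with h | h
  · left
    have h' : rC 0 1 false * rC p q d = rC p q d * rC 0 1 false := Subtype.ext h
    rw [conj_mul, conj_mul, h']
  · right
    have h' : rC 0 1 false * rC p q d * (rC 0 1 false * rC p q d) * (rC 0 1 false * rC p q d) = 1 :=
      Subtype.ext h
    rw [conj_mul, conj_mul, conj_mul, h', mul_one, mul_inv_cancel]

end Cfsg.Agent.A12Type.Sp
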