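import Cfsg.Agent.A12Type.Sp.Gen
import Cfsg.Agent.Sp6Local.CoxIso

/-!
In the symplectic pattern a transvection outside the centralizer commuting with a complement `S6`
completes the six reflections to seven generators of `Sp(6,2)`.
-/

set_option autoImplicit false
set_option maxRecDepth 100000

namespace Cfsg.Agent.A12Type.Sp

open Equiv Subgroup

/-- The flip of a pair and the last one. -/
def flipC (i : Fin 6) : C12 := rC i 5 false * rC i 5 true

theorem flip_table : (∀ i, flipC i * flipC i = 1) ∧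
    (flipC 2 * rC 0 1 false * flipC 2 = rC 0 1 false ∧ flipC 2 * rC 1 2 false * flipC 2 = rC 1 2 true) ∧
    (flipC 3 * rC 0 1 false * flipC 3 = rC 0 1 false ∧ flipC 3 * rC 1 2 false * flipC 3 = rC 1 2 false ∧
      flipC 3 * rC 2 3 false * flipC 3 = rC 2 3 true) ∧
    flipC 4 * rC 0 1 false * flipC 4 = rC 0 1 false ∧ flipC 4 * rC 1 2 false * flipC 4 = rC 1 2 false ∧
    flipC 4 * rC 2 3 false * flipC 4 = rC 2 3 false ∧ flipC 4 * rC 3 4 false * flipC 4 = rC 3 4 true := by
  decide +kernel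

/-- The reflections among the seven generators. -/
def genI : Fin 6 → Fin 6 × Fin 6 × Bool :=
  ![(4, 5, false), (4, 5, true), (3, 4, false), (2, 3, false), (1, 2, false), (0, 1, false)]

/-- The reflections among the seven generators, as elements. -/
def genR (k : Fin 6) : C12 := rC (genI k).1 (genI k).2.1 (genI k).2.2

theorem genR_rel : ∀ p q : Fin 6, (genR p * genR q) ^ CoxeterMatrix.E₇ p.succ q.succ = 1 := by
  decide +kernel

theorem xor_iff {P Q : Prop} (h : ¬ (P ↔ Q)) : (P ↔ ¬ Q) ∧ (Q ↔ ¬ P) := by tauto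

theorem genR_six : ∀ k : Fin 6, ∃ p : Fin 6, genR p = six k := by
  decide +kernel

theorem e7_head : CoxeterMatrix.E₇ 0 0 = 1 ∧ ∀ p : Fin 6,
    CoxeterMatrix.E₇ 0 p.succ = (if p = 1 then 3 else 2) ∧
      CoxeterMatrix.E₇ p.succ 0 = (if p = 1 then 3 else 2) := by
  decide +kernel

end Cfsg.Agent.A12Type.Sp

namespace Cfsg.Agent.A12Type.Setup

open Equiv Subgroup Sp

variable {G : Type*} [Group G] (B : Setup G)

theorem j_seven : B.j 2 = B.f (rC 0 1 false) ∧ B.j 8 = B.f (rC 2 3 false) ∧ B.j 12 = B.f (rC 2 3 true) ∧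
    B.j 32 = B.f (rC 4 5 false) := by
  obtain ⟨e2, -, e8, e12, e32, -⟩ := seven_refl
  exact ⟨congrArg B.f (Subtype.ext e2), congrArg B.f (Subtype.ext e8),
    congrArg B.f (Subtype.ext e12), congrArg B.f (Subtype.ext e32)⟩

theorem commute_conj {g x y : G} : Commute (g * x * g⁻¹) (g * y * g⁻¹) ↔ Commute x y := Commute.conj_iff g

variable (h : B.PatS)
include h

theorem tr_seven {i : Fin 64} (hi : i ∈ seven) : IsConj B.a (B.j i) := by
  obtain ⟨hi0, hc⟩ := (seven_spec i).2 hi
  rw [← B.j_tc]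
  exact (h 21 i (by decide) hi0).2 (by rw [hc]; decide +kernel)

theorem tr_refl {x : C12} (hx : IsR x) : IsConj B.a (B.f x) := by
  obtain ⟨l, m, b, hlm, rfl⟩ := hx
  obtain ⟨i, j, h1, h2, h3, h4, h5⟩ := exists_pair l m hlm
  refine (B.tr_seven h (i := 2) (by decide)).trans (isConj_iff.2 ⟨B.f (quad l m i j b), ?_⟩)
  rw [(B.j_seven).1, ← map_inv, ← map_mul, ← map_mul]
  exact congrArg B.f
    (mul_inv_eq_iff_eq_mul.2 (Subtype.ext (quad_spec l m i j hlm h1 h2 h3 h4 h5 b).1))

theorem tr_mul_self {y : G} (hy : IsConj B.a y) : y * y = 1 := by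
  obtain ⟨g, rfl⟩ := isConj_iff.1 hy
  rw [conj_mul, ← B.j_tc, B.j_mul_self, mul_one, mul_inv_cancel]

variable [Finite G]

/-- The transvections of the centralizer. -/
theorem cases_C {y : G} (hy : IsConj B.a y) (hya : Commute y B.a) :
    y = B.a ∨ ∃ x, IsR x ∧ y = B.f x := by
  obtain ⟨g, hg⟩ := B.exists_conj_mem_J hya (B.tr_mul_self h hy)
  obtain ⟨i, hi⟩ := B.mem_J.1 hg
  have hc : IsConj (B.j 21) (B.j i) := by
    rw [B.j_tc]; exact hy.trans (isConj_iff.2 ⟨B.f g, hi.symm⟩)
  have hi0 : i ≠ 0 := fun e => by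
    subst e
    rw [B.j_zero, eq_comm, conj_eq_one_iff] at hi
    obtain ⟨c, hc'⟩ := isConj_iff.1 hy
    rw [hi, conj_eq_one_iff, ← B.j_tc, ← B.j_zero] at hc'
    exact absurd (B.j_inj hc') (by decide)
  have hci : cS i = 0 := ((h 21 i (by decide) hi0).1 hc).symm.trans (by decide +kernel)
  have e : y = (B.f g)⁻¹ * B.j i * B.f g := by rw [hi]; group
  rcases el_seven ((seven_spec i).1 ⟨hi0, hci⟩) with rfl | hR
  · left
    rw [e, B.j_tc, mul_assoc, ← (B.commute_a g).eq, inv_mul_cancel_left]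
  · refine Or.inr ⟨g⁻¹ * el i * g⁻¹⁻¹, hR.conj g⁻¹, ?_⟩
    rw [e, map_mul, map_mul, map_inv, inv_inv, j]

/-- An element of the normalizer of the elementary subgroup moving a transvection to `a`. -/
theorem exists_swap : ∃ n : G, n * B.j 2 * n⁻¹ = B.a ∧
    ∀ i : Fin 64, i ≠ 0 → ∃ k, k ≠ 0 ∧ cS k = cS i ∧ n * B.j i * n⁻¹ = B.j k := by
  obtain ⟨n, hnJ, hn⟩ := B.exists_normalizer_conj (i := 2) (k := 21)
    ((h 2 21 (by decide) (by decide)).2 (by decide +kernel))
  refine ⟨n, hn.trans B.j_tc, fun i hi => ?_⟩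
  obtain ⟨k, hk⟩ := B.mem_J.1 ((hnJ _).2 (B.j_mem i))
  have hk0 : k ≠ 0 := fun e => hi (B.j_inj (by
    rw [e, B.j_zero, eq_comm, conj_eq_one_iff] at hk
    rw [hk, B.j_zero]))
  exact ⟨k, hk0, ((h i k hi hk0).1 (isConj_iff.2 ⟨n, hk.symm⟩)).symm, hk.symm⟩

/-- A transvection commuting with `j 2` commutes with one or all members of each line. -/
theorem line_rule {t : G} (ht : IsConj B.a t) (ht2 : Commute t (B.j 2)) {i k l : Fin 64}
    (hi : i ∈ seven) (hk : k ∈ seven) (hl : l ∈ seven) (hc : cS (xr i (xr k l)) = 2)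
    (hne : xr i (xr k l) ≠ 0) :
    Commute t (B.j i) ↔ (Commute t (B.j k) ↔ Commute t (B.j l)) := by
  obtain ⟨n, hn2, hn⟩ := B.exists_swap h
  have img : ∀ i ∈ seven, ∃ i', i' ∈ seven ∧ n * B.j i * n⁻¹ = B.j i' := fun i hi => by
    obtain ⟨hi0, hc0⟩ := (seven_spec i).2 hi
    obtain ⟨i', h1, h2, h3⟩ := hn i hi0
    exact ⟨i', (seven_spec i').1 ⟨h1, h2.trans hc0⟩, h3⟩
  obtain ⟨i', hi', ei⟩ := img i hi
  obtain ⟨k', hk', ek⟩ := img k hk
  obtain ⟨l', hl', el'⟩ := img l hl
  obtain ⟨p, -, hp, ep⟩ := hn _ hne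
  have hpe : p = xr i' (xr k' l') := by
    refine B.j_inj ?_
    rw [← ep, ← B.j_mul, ← B.j_mul, ← conj_mul, ← conj_mul, ei, ek, el', B.j_mul, B.j_mul]
  have hu : Commute (n * t * n⁻¹) B.a := hn2 ▸ commute_conj.2 ht2
  rcases B.cases_C h (ht.trans (isConj_iff.2 ⟨n, rfl⟩)) hu with e | ⟨x, ⟨a, b, c, hab, rfl⟩, e⟩
  · have : ∀ q : Fin 64, Commute t (B.j q) ↔ Commute B.a (n * B.j q * n⁻¹) := fun q => by
      rw [← e, commute_conj]
    rw [this i, this k, this l, ei, ek, el']
    simp only [← B.j_tc, B.j_comm]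
  · have key : ∀ q q' : Fin 64, n * B.j q * n⁻¹ = B.j q' →
        (Commute t (B.j q) ↔ elP q' * rP a b c = rP a b c * elP q') := fun q q' eq => by
      rw [← commute_conj (g := n), e, eq, j]
      constructor
      · intro hq
        have := B.inj ((map_mul B.f _ _).trans (hq.eq.trans (map_mul B.f _ _).symm))
        exact (congrArg Subtype.val this).symm
      · intro hq
        show _ * _ = _ * _
        rw [← map_mul, ← map_mul]
        exact congrArg B.f (Subtype.ext hq.symm)
    rw [key i i' ei, key k k' ek, key l l' el']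
    exact line_table i' hi' k' hk' l' hl' (by rw [← hpe, hp, hc]) a b c hab

/-- A transvection outside the centralizer commuting with a reflection commutes with exactly one
reflection of each of the disjoint pairs. -/
theorem pair_rule {t : G} (ht : IsConj B.a t) (hta : ¬ Commute t B.a) {l m i j : Fin 6} {b : Bool}
    (h0 : l ≠ m) (h1 : l ≠ i) (h2 : l ≠ j) (h3 : m ≠ i) (h4 : m ≠ j) (h5 : i ≠ j)
    (hx : Commute t (B.f (rC l m b))) :
    Commute t (B.f (rC i j false)) ↔ ¬ Commute t (B.f (rC i j true)) := by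
  obtain ⟨e0, e1, e2⟩ := quad_spec l m i j h0 h1 h2 h3 h4 h5 b
  set c := quad l m i j b
  obtain ⟨j2, j8, j12, -⟩ := B.j_seven
  set g := B.f c
  have mv : ∀ {x y : C12}, (c : Perm (Fin 12)) * x = y * c →
      g * B.f x * g⁻¹ = B.f y := fun {x y} e => by
    rw [mul_inv_eq_iff_eq_mul, ← map_mul, ← map_mul]
    exact congrArg B.f (Subtype.ext e)
  set s := g⁻¹ * t * g with hs
  have back : t = g * s * g⁻¹ := by rw [hs]; group
  have hsa : ¬ Commute s B.a := fun hc => hta (by
    rw [back, show B.a = g * B.a * g⁻¹ from (mul_inv_eq_iff_eq_mul.2 (B.commute_a c).eq).symm]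
    exact commute_conj.2 hc)
  have tr : IsConj B.a s := ht.trans (isConj_iff.2 ⟨g⁻¹, by rw [hs, inv_inv]⟩)
  have hs2 : Commute s (B.j 2) := by
    rw [← commute_conj (g := g), ← back, j2, mv (y := rC l m b) e0]; exact hx
  have hline := B.line_rule h tr hs2 (i := 21) (k := 8) (l := 12) (by decide) (by decide) (by decide)
    (by decide +kernel) (by decide +kernel)
  rw [B.j_tc, iff_false_left hsa, ← commute_conj (g := g) (y := B.j 8),
    ← commute_conj (g := g) (y := B.j 12), ← back, j8, j12, mv (y := rC i j b) e1,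
    mv (y := rC i j (!b)) e2] at hline
  cases b
  · exact (xor_iff hline).1
  · exact (xor_iff hline).2

/-- A transvection commuting with four reflections of the diagram and outside the centralizer. -/
theorem exists_t : ∃ t : G, IsConj B.a t ∧ ¬ Commute t B.a ∧ Commute t (B.f (rC 0 1 false)) ∧
    Commute t (B.f (rC 1 2 false)) ∧ Commute t (B.f (rC 2 3 false)) ∧ Commute t (B.f (rC 3 4 false)) := by
  obtain ⟨n, hn2, hn⟩ := B.exists_swap h
  obtain ⟨i, hi0, hci, hia⟩ := hn 21 (by decide)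
  have hi21 : i ≠ 21 := fun e => by
    subst e
    have := mul_left_cancel (mul_right_cancel (hia.trans (B.j_tc.trans hn2.symm)))
    exact absurd (B.j_inj this) (by decide)
  obtain ⟨p, q, b, hpq, hnc⟩ := noncomm_table i ((seven_spec i).1 ⟨hi0, hci.trans (by decide +kernel)⟩) hi21
  set u := B.f (rC p q b) with hu
  set t0 := n⁻¹ * u * n with ht0
  have back : u = n * t0 * n⁻¹ := by rw [ht0]; group
  have tr0 : IsConj B.a t0 :=
    (B.tr_refl h ⟨p, q, b, hpq, rfl⟩).trans (isConj_iff.2 ⟨n⁻¹, by rw [inv_inv]⟩)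
  have na0 : ¬ Commute t0 B.a := fun hc => hnc (by
    have h1 : Commute u (B.j i) := by rw [back, ← hia, B.j_tc]; exact commute_conj.2 hc
    have := B.inj ((map_mul B.f _ _).trans (h1.eq.trans (map_mul B.f _ _).symm))
    exact (congrArg Subtype.val this).symm)
  have c0 : Commute t0 (B.f (rC 0 1 false)) := by
    rw [← (B.j_seven).1, ← commute_conj (g := n), ← back, hn2]
    exact B.commute_a _
  -- correcting by flips
  obtain ⟨fsq, ⟨f20, f21⟩, ⟨f30, f31, f32⟩, f40, f41, f42, f43⟩ := flip_table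
  have fix : ∀ (k : Fin 6) {t : G}, IsConj B.a t → ¬ Commute t B.a →
      IsConj B.a (B.f (flipC k) * t * (B.f (flipC k))⁻¹) ∧
        ¬ Commute (B.f (flipC k) * t * (B.f (flipC k))⁻¹) B.a ∧
        ∀ x y, flipC k * x * flipC k = y → Commute t (B.f y) →
          Commute (B.f (flipC k) * t * (B.f (flipC k))⁻¹) (B.f x) := by
    intro k t h1 h2
    refine ⟨h1.trans (isConj_iff.2 ⟨_, rfl⟩), fun hc => h2 ?_, fun x y e hy => ?_⟩
    · rw [← commute_conj (g := B.f (flipC k)),
        mul_inv_eq_iff_eq_mul.2 (B.commute_a (flipC k)).eq]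
      exact hc
    · have e' : B.f (flipC k) * B.f y * (B.f (flipC k))⁻¹ = B.f x := by
        have e2 : flipC k * y * flipC k = x := by
          rw [← e]
          simp only [← mul_assoc, fsq, one_mul]
          rw [mul_assoc, fsq, mul_one]
        rw [← map_inv, ← map_mul, ← map_mul, inv_eq_of_mul_eq_one_right (fsq k), e2]
      rw [← e']
      exact commute_conj.2 hy
  have s1 : ∃ t : G, IsConj B.a t ∧ ¬ Commute t B.a ∧ Commute t (B.f (rC 0 1 false)) ∧
      Commute t (B.f (rC 1 2 false)) := by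
    by_cases hc : Commute t0 (B.f (rC 1 2 false))
    · exact ⟨t0, tr0, na0, c0, hc⟩
    obtain ⟨d, hd⟩ : ∃ d, Commute t0 (B.f (rC 3 4 d)) := by
      by_cases hd : Commute t0 (B.f (rC 3 4 false))
      · exact ⟨_, hd⟩
      · exact ⟨true, not_not.1 fun hh => hd ((B.pair_rule h tr0 na0 (by decide) (by decide) (by decide)
          (by decide) (by decide) (by decide) c0).2 hh)⟩
    have h12 : Commute t0 (B.f (rC 1 2 true)) := not_not.1 fun hh => hc ((B.pair_rule h tr0 na0
      (by decide) (by decide) (by decide) (by decide) (by decide) (by decide) hd).2 hh)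
    obtain ⟨x1, x2, x3⟩ := fix 2 tr0 na0
    exact ⟨_, x1, x2, x3 _ _ f20 c0, x3 _ _ f21 h12⟩
  obtain ⟨t1, tr1, na1, a01, a12⟩ := s1
  have s2 : ∃ t : G, IsConj B.a t ∧ ¬ Commute t B.a ∧ Commute t (B.f (rC 0 1 false)) ∧
      Commute t (B.f (rC 1 2 false)) ∧ Commute t (B.f (rC 2 3 false)) := by
    by_cases hc : Commute t1 (B.f (rC 2 3 false))
    · exact ⟨t1, tr1, na1, a01, a12, hc⟩
    have h23 : Commute t1 (B.f (rC 2 3 true)) := not_not.1 fun hh => hc ((B.pair_rule h tr1 na1
      (by decide) (by decide) (by decide) (by decide) (by decide) (by decide) a01).2 hh)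
    obtain ⟨x1, x2, x3⟩ := fix 3 tr1 na1
    exact ⟨_, x1, x2, x3 _ _ f30 a01, x3 _ _ f31 a12, x3 _ _ f32 h23⟩
  obtain ⟨t2, tr2, na2, b01, b12, b23⟩ := s2
  by_cases hc : Commute t2 (B.f (rC 3 4 false))
  · exact ⟨t2, tr2, na2, b01, b12, b23, hc⟩
  have h34 : Commute t2 (B.f (rC 3 4 true)) := not_not.1 fun hh => hc ((B.pair_rule h tr2 na2
    (by decide) (by decide) (by decide) (by decide) (by decide) (by decide) b01).2 hh)
  obtain ⟨x1, x2, x3⟩ := fix 4 tr2 na2
  exact ⟨_, x1, x2, x3 _ _ f40 b01, x3 _ _ f41 b12, x3 _ _ f42 b23, x3 _ _ f43 h34⟩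

/-- Two transvections commuting with `j 2` commute or have product of order three. -/
theorem tr_cube {t r : G} (ht : IsConj B.a t) (hr : IsConj B.a r) (ct : Commute t (B.j 2))
    (cr : Commute r (B.j 2)) : Commute t r ∨ (t * r) ^ 3 = 1 := by
  obtain ⟨n, hn2, -⟩ := B.exists_swap h
  have inC : ∀ {y : G}, IsConj B.a y → Commute y (B.j 2) →
      n * y * n⁻¹ = B.a ∨ ∃ x, IsR x ∧ n * y * n⁻¹ = B.f x := fun hy hc =>
    B.cases_C h (hy.trans (isConj_iff.2 ⟨n, rfl⟩)) (hn2 ▸ commute_conj.2 hc)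
  rcases inC ht ct with e | ⟨x, hx, e⟩
  · left
    rw [← commute_conj (g := n), e]
    exact (hn2 ▸ commute_conj.2 cr : Commute (n * r * n⁻¹) B.a).symm
  rcases inC hr cr with e' | ⟨y, hy, e'⟩
  · left
    rw [← commute_conj (g := n), e, e']
    exact B.commute_a x
  rcases hx.cube hy with hh | hh
  · left
    rw [← commute_conj (g := n), e, e']
    show _ * _ = _ * _
    rw [← map_mul, ← map_mul, hh]
  · right
    have : (n * (t * r) * n⁻¹) ^ 3 = 1 := by
      rw [← conj_mul, e, e', pow_succ, pow_two, ← map_mul, ← map_mul, ← map_mul, hh, map_one]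
    rwa [conj_pow, conj_eq_one_iff] at this

/-- The seven generators give `Sp(6,2)` containing the centralizer. -/
theorem exists_K : ∃ (K : Subgroup G) (e : K ≃* Sp6Local.Sp), B.f.range ≤ K ∧
    ∃ hm : B.f (rC 4 5 false) ∈ K, e ⟨_, hm⟩ = Sp6Local.tv 2 := by
  obtain ⟨t, ht, hta, t01, t12, t23, t34⟩ := B.exists_t h
  obtain ⟨j2, j8, -, j32⟩ := B.j_seven
  have t45 : Commute t (B.f (rC 4 5 false)) := by
    have := B.line_rule h ht (j2 ▸ t01) (i := 2) (k := 8) (l := 32) (by decide) (by decide) (by decide)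
      (by decide +kernel) (by decide +kernel)
    rw [j2, j8, j32] at this
    exact (this.1 t01).1 t23
  have t45' : ¬ Commute t (B.f (rC 4 5 true)) := (B.pair_rule h ht hta (by decide) (by decide)
    (by decide) (by decide) (by decide) (by decide) t01).1 t45
  let g : Fin 7 → G := Fin.cons t fun k => B.f (genR k)
  have g0 : g 0 = t := rfl
  have gs : ∀ k : Fin 6, g k.succ = B.f (genR k) := fun k => Fin.cons_succ _ _ _
  have t2 := B.tr_mul_self h ht
  have sym : ∀ {x y : G} {m : ℕ}, (x * y) ^ m = 1 → (y * x) ^ m = 1 := by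
    intro x y m e
    rw [show y * x = y * (x * y) * y⁻¹ by group, conj_pow, e, mul_one, mul_inv_cancel]
  have hr : ∀ k, B.f (genR k) * B.f (genR k) = 1 := fun k =>
    B.tr_mul_self h (B.tr_refl h ⟨_, _, _, by revert k; decide +kernel, rfl⟩)
  have head : ∀ k : Fin 6, (t * B.f (genR k)) ^ (if k = 1 then 3 else 2) = 1 := by
    intro k
    by_cases hk : k = 1
    · subst hk
      rw [if_pos rfl]
      refine (B.tr_cube h ht (B.tr_refl h ⟨_, _, _, by decide +kernel, rfl⟩) (j2 ▸ t01) ?_).resolve_left t45'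
      rw [j2]
      show _ * _ = _ * _
      rw [← map_mul, ← map_mul]
      exact congrArg B.f (show genR 1 * rC 0 1 false = rC 0 1 false * genR 1 by decide +kernel)
    · rw [if_neg hk]
      have hc : Commute t (B.f (genR k)) := by
        fin_cases k
        exacts [t45, absurd rfl hk, t34, t23, t12, t01]
      rw [hc.mul_pow, pow_two, pow_two, t2, hr, one_mul]
  have hrel : ∀ i j, (g i * g j) ^ CoxeterMatrix.E₇ i j = 1 := by
    intro i j
    obtain ⟨e00, eh⟩ := e7_head
    rcases Fin.eq_zero_or_eq_succ i with rfl | ⟨p, rfl⟩ <;>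
      rcases Fin.eq_zero_or_eq_succ j with rfl | ⟨q, rfl⟩
    · rw [e00, pow_one, g0, t2]
    · rw [(eh q).1, g0, gs]; exact head q
    · rw [(eh p).2, g0, gs]; exact sym (head p)
    · rw [gs, gs, ← map_mul, ← map_pow, genR_rel, map_one]
  set K := closure (Set.range g) with hK
  have hle : B.f.range ≤ K := by
    rw [MonoidHom.range_eq_map, ← closure_six, MonoidHom.map_closure, closure_le]
    rintro _ ⟨_, ⟨k, rfl⟩, rfl⟩
    obtain ⟨p, hp⟩ := genR_six k
    rw [← hp, ← gs p]
    exact subset_closure ⟨_, rfl⟩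
  have hz : ∀ z ∈ K, z * z = 1 → (∀ i, z * g i = g i * z) → z = 1 := by
    intro z _ _ hzc
    have hall : ∀ x : C12, Commute z (B.f x) := by
      intro x
      have hx : x ∈ closure (Set.range six) := closure_six ▸ mem_top x
      induction hx using closure_induction with
      | mem y hy =>
        obtain ⟨k, rfl⟩ := hy
        obtain ⟨p, hp⟩ := genR_six k
        rw [← hp, ← gs p]
        exact hzc _
      | one => rw [map_one]; exact Commute.one_right z
      | mul y y' _ _ e1 e2 => rw [map_mul]; exact e1.mul_right e2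
      | inv y _ e => rw [map_inv]; exact e.inv_right
    obtain ⟨y, rfl⟩ := B.mem_range_of_commute (show Commute z B.a from hall tc)
    rcases center_cases (z := y) (fun x => B.inj (by rw [map_mul, map_mul]; exact (hall x).eq)) with
      rfl | rfl
    · exact map_one _
    · exact absurd (show Commute (B.f tc) t from hzc 0).symm hta
  have ht1 : g 0 ≠ 1 := fun e => hta (by rw [← g0, e]; exact Commute.one_left _)
  obtain ⟨e, he⟩ := Sp6Local.exists_iso_of_cox g hrel hz ht1
  refine ⟨K, e, hle, subset_closure ⟨1, gs 0⟩, ?_⟩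
  exact (congrArg e (Subtype.ext (gs 0).symm)).trans ((he 1).trans rfl)

end Cfsg.Agent.A12Type.Setup
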